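import Cfsg.Agent.Quadratic.StableQd
import Cfsg.Agent.Components.ZJ.Stable

/-!
Groups not involving `Qd(p)`: subgroups, sections, and stability in the normalizer form.
-/

set_option autoImplicit false
set_option linter.style.haveILetI false
set_option linter.unusedSectionVars false

namespace Cfsg.Lib.QdFree

open Subgroup

universe u v

variable {G : Type u} [Group G] {Y : Type v} [Group Y]

theorem involves_of_injective {H : Type*} [Group H] {f : H →* G} (hf : Function.Injective f)
    (h : Cfsg.Involves Y H) : Cfsg.Involves Y G := by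
  obtain ⟨K, R, hR, ⟨e⟩⟩ := h
  haveI := hR
  let m : K ≃* (K.map f : Subgroup G) := K.equivMapOfInjective f hf
  have hR' : (R.subgroupOf K).map m.toMonoidHom = (R.map f).subgroupOf (K.map f) := by
    ext ⟨x, hx⟩
    constructor
    · rintro ⟨k, hk, hkx⟩
      have : f (k : H) = x := congrArg Subtype.val hkx
      exact ⟨k, hk, this⟩
    · intro hx'
      obtain ⟨r, hr, hrx⟩ := (hx' : x ∈ R.map f)
      obtain ⟨k, hk, hkx⟩ := hx
      have hrk : r = k := hf (hrx.trans hkx.symm)
      exact ⟨⟨k, hk⟩, (hrk ▸ hr : k ∈ R), Subtype.ext hkx⟩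
  haveI hn : ((R.map f).subgroupOf (K.map f)).Normal := hR' ▸ hR.map m.toMonoidHom m.surjective
  exact ⟨K.map f, R.map f, hn, ⟨(QuotientGroup.congr _ _ m hR').symm.trans e⟩⟩

theorem involves_of_section {K R : Subgroup G} [(R.subgroupOf K).Normal]
    (h : Cfsg.Involves Y (K ⧸ R.subgroupOf K)) : Cfsg.Involves Y G :=
  involves_of_injective K.subtype_injective
    (Cfsg.Lib.QuadPair.involves_of_surjective (QuotientGroup.mk'_surjective _) h)

variable [Finite G] {p : ℕ} [Fact p.Prime]

/-- a group without `Qd(p)` is `p`-stable in the normalizer form -/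
theorem normalizerPStable (hp : p ≠ 2) (hqd : ¬ Cfsg.Involves ↥(Cfsg.qd p) G) :
    Cfsg.IsNormalizerPStable p G := by
  intro P hP g hg hquad
  set H := normalizer (P : Set G)
  set B := P.subgroupOf H
  haveI : B.Normal := (normal_subgroupOf_iff_le_normalizer le_normalizer).mpr le_rfl
  have hBP : B.map H.subtype = P := map_subgroupOf_eq_of_le le_normalizer
  have hB : IsPGroup p B := hP.comap_subtype
  have hq : ⁅⁅B, zpowers (⟨g, hg⟩ : H)⁆, zpowers (⟨g, hg⟩ : H)⁆ = ⊥ := by
    rw [← map_eq_bot_iff_of_injective _ H.subtype_injective, map_commutator, map_commutator,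
      MonoidHom.map_zpowers, hBP]
    exact hquad
  have hmem := Cfsg.Lib.QuadPair.stable_of_qd_free hp _ H
    (fun h => hqd (involves_of_injective H.subtype_injective h)) B hB rfl ⟨g, hg⟩ hq
  have hC : centralizer (B : Set H) = (centralizer (P : Set G)).subgroupOf H := by
    ext x
    simp only [mem_subgroupOf, mem_centralizer_iff]
    constructor
    · intro hx y hy
      exact congrArg Subtype.val (hx ⟨y, le_normalizer hy⟩ hy)
    · intro hx y hy
      exact Subtype.ext (hx y hy)
  haveI : ((centralizer (P : Set G)).subgroupOf H).Normal := hC ▸ (inferInstance : (centralizer (B : Set H)).Normal)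
  let e := QuotientGroup.quotientMulEquivOfEq hC
  exact Cfsg.Lib.ZJ.map_pCore_le (f := e.toMonoidHom) e.surjective (mem_map_of_mem _ hmem)

theorem normalizerPStable_section (hp : p ≠ 2) (hqd : ¬ Cfsg.Involves ↥(Cfsg.qd p) G)
    (K R : Subgroup G) [(R.subgroupOf K).Normal] :
    Cfsg.IsNormalizerPStable p (K ⧸ R.subgroupOf K) :=
  normalizerPStable hp fun h => hqd (involves_of_section h)

end Cfsg.Lib.QdFree
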