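import Cfsg.Agent.Components.Qd.Basics
import Cfsg.Agent.Components.KInf.Control
import Cfsg.Agent.Components.ZJ.Glauberman
import Cfsg.Agent.Classical.SL

/-!
`Qd(p)` is not stable and neither `Z(J)` nor the `K`-infinity subgroup controls fusion in it.
-/

set_option autoImplicit false
set_option linter.style.haveILetI false
set_option linter.unusedSectionVars false

namespace Cfsg.Lib.QdConverse

open Matrix
open scoped commutatorElement

universe u

variable {p : ℕ} [Fact p.Prime]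

local notation "SL2" => Matrix.SpecialLinearGroup (Fin 2) (ZMod p)

/-- the upper unitriangular matrices -/
def uniHom (p : ℕ) [Fact p.Prime] : Multiplicative (ZMod p) →* Matrix.SpecialLinearGroup (Fin 2) (ZMod p) where
  toFun a := ⟨!![1, a.toAdd; 0, 1], by simp [det_fin_two]⟩
  map_one' := Subtype.ext (by ext i j; fin_cases i <;> fin_cases j <;> simp)
  map_mul' a b := Subtype.ext (show (!![1, (a * b).toAdd; 0, 1] : Matrix (Fin 2) (Fin 2) (ZMod p)) =
      (!![1, a.toAdd; 0, 1] : Matrix (Fin 2) (Fin 2) (ZMod p)) * !![1, b.toAdd; 0, 1] by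
    ext i j
    fin_cases i <;> fin_cases j <;> simp [Matrix.mul_apply, Fin.sum_univ_two, add_comm])

theorem uniHom_apply (a : ZMod p) :
    ((uniHom p (Multiplicative.ofAdd a) : SL2) : Matrix (Fin 2) (Fin 2) (ZMod p)) = !![1, a; 0, 1] := rfl

theorem uniHom_mulVec (a : ZMod p) (v : Fin 2 → ZMod p) :
    ((uniHom p (Multiplicative.ofAdd a) : SL2) : Matrix (Fin 2) (Fin 2) (ZMod p)) *ᵥ v =
      ![v 0 + a * v 1, v 1] := by
  rw [uniHom_apply]
  ext i
  fin_cases i <;> simp [Matrix.mulVec, dotProduct, Fin.sum_univ_two]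

theorem uniHom_injective : Function.Injective (uniHom p) := fun a b h => by
  have := congrFun (congrFun (congrArg Subtype.val h) 0) 1
  exact Multiplicative.toAdd.injective this

theorem not_dvd_index_uni : ¬ p ∣ (uniHom p).range.index := by
  have hp := (Fact.out : p.Prime)
  have hcard : Nat.card (uniHom p).range = p := by
    rw [← Nat.card_congr (MonoidHom.ofInjective uniHom_injective).toEquiv,
      Nat.card_congr Multiplicative.toAdd, Nat.card_zmod]
  have h := Cfsg.Lib.Classical.card_SL_mul_eq_prod (F := ZMod p) (n := 2) one_le_two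
  rw [Fin.prod_univ_two, ZMod.card, ← Subgroup.card_mul_index (uniHom p).range, hcard] at h
  simp only [Fin.val_zero, Fin.val_one, pow_zero, pow_one] at h
  obtain ⟨m, hm⟩ : ∃ m, p = m + 2 := ⟨p - 2, by have := hp.two_le; omega⟩
  intro hd
  obtain ⟨c, hc⟩ := hd
  rw [hc] at h
  subst hm
  have h1 : (m + 2) ^ 2 - 1 = (m + 1) * (m + 3) := Nat.sub_eq_of_eq_add (by ring)
  have h2 : (m + 2) ^ 2 - (m + 2) = (m + 2) * (m + 1) := Nat.sub_eq_of_eq_add (by ring)
  rw [h1, h2, show m + 2 - 1 = m + 1 by omega,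
    show (m + 1) * ((m + 2) * ((m + 2) * c)) = ((m + 1) * (m + 2)) * ((m + 2) * c) by ring,
    show (m + 1) * (m + 3) * ((m + 2) * (m + 1)) = ((m + 1) * (m + 2)) * ((m + 1) * (m + 3)) by ring] at h
  have h3 := Nat.eq_of_mul_eq_mul_left (by positivity) h
  have h4 : (m + 2) ∣ 1 := by
    have h5 : (m + 2) ∣ (m + 1) * (m + 3) + 1 := ⟨m + 2, by ring⟩
    exact (Nat.dvd_add_right ⟨c, h3.symm⟩).mp h5
  have := Nat.le_of_dvd one_pos h4
  omega

/-- a group with the structure of `Qd(p)` -/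
structure QdLike (X : Type u) [Group X] (p : ℕ) [Fact p.Prime] where
  ψ : X ≃* Cfsg.qd p
  l : X →* Matrix.SpecialLinearGroup (Fin 2) (ZMod p)
  tr : Multiplicative (Fin 2 → ZMod p) →* X
  li : Matrix.SpecialLinearGroup (Fin 2) (ZMod p) →* X
  htr : ∀ v, ψ (tr v) = Fusion.transl v
  l_li : ∀ M, l (li M) = M
  hker : ∀ g, l g = 1 ↔ g ∈ tr.range
  hinj : Function.Injective tr
  conj : ∀ (g : X) (v : Fin 2 → ZMod p), g * tr (Multiplicative.ofAdd v) * g⁻¹ =
    tr (Multiplicative.ofAdd (((l g : Matrix.SpecialLinearGroup (Fin 2) (ZMod p)) : Matrix (Fin 2) (Fin 2) (ZMod p)) *ᵥ v))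

theorem exists_qdLike {X : Type u} [Group X] (ψ : X ≃* Cfsg.qd p) : Nonempty (QdLike X p) := by
  obtain ⟨l, hl, hker⟩ := Cfsg.Lib.QdRankTwo.exists_lin (p := p)
  refine ⟨⟨ψ, l.comp ψ.toMonoidHom, ψ.symm.toMonoidHom.comp Fusion.transl, ψ.symm.toMonoidHom.comp Fusion.linear,
    fun v => ψ.apply_symm_apply _, fun M => ?_, fun g => ?_, ?_, fun g v => ?_⟩⟩
  · show l (ψ (ψ.symm (Fusion.linear M))) = M
    rw [ψ.apply_symm_apply]
    exact hl M 0
  · show l (ψ g) = 1 ↔ _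
    rw [hker]
    constructor
    · rintro ⟨v, hv⟩
      exact ⟨v, ψ.injective (by show ψ (ψ.symm _) = _; rw [ψ.apply_symm_apply, hv])⟩
    · rintro ⟨v, rfl⟩
      exact ⟨v, (ψ.apply_symm_apply _).symm⟩
  · exact ψ.symm.injective.comp Cfsg.Lib.QdRankTwo.transl_injective
  · refine ψ.injective ?_
    show ψ (g * ψ.symm (Fusion.transl (Multiplicative.ofAdd v)) * g⁻¹) = ψ (ψ.symm (Fusion.transl _))
    rw [map_mul, map_mul, map_inv, ψ.apply_symm_apply, ψ.apply_symm_apply,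
      Cfsg.Lib.QdRankTwo.conj_transl' l hl]
    rfl

namespace QdLike

variable {X : Type u} [Group X] [Finite X] (D : QdLike X p)

/-- a translation -/
def t (v : Fin 2 → ZMod p) : X := D.tr (Multiplicative.ofAdd v)

theorem t_add (v w : Fin 2 → ZMod p) : D.t v * D.t w = D.t (v + w) := by
  rw [t, t, t, ← map_mul, ← ofAdd_add]

theorem t_inv (v : Fin 2 → ZMod p) : (D.t v)⁻¹ = D.t (-v) := by
  rw [t, t, ← map_inv, ← ofAdd_neg]

theorem t_comm (v w : Fin 2 → ZMod p) : D.t v * D.t w = D.t w * D.t v := by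
  rw [t_add, t_add, add_comm]

theorem conj_t (g : X) (v : Fin 2 → ZMod p) :
    g * D.t v * g⁻¹ = D.t (((D.l g : SL2) : Matrix (Fin 2) (Fin 2) (ZMod p)) *ᵥ v) := D.conj g v

/-- the translations -/
def V : Subgroup X := D.tr.range

theorem mem_V {g : X} : g ∈ D.V ↔ ∃ v, g = D.t v :=
  ⟨fun ⟨v, hv⟩ => ⟨v.toAdd, hv.symm⟩, fun ⟨v, hv⟩ => ⟨Multiplicative.ofAdd v, hv.symm⟩⟩

instance V_normal : D.V.Normal :=
  ⟨fun x hx g => by
    obtain ⟨v, rfl⟩ := D.mem_V.mp hx
    exact D.mem_V.mpr ⟨_, D.conj_t g v⟩⟩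

theorem pow_p_of_mem_V {g : X} (hg : g ∈ D.V) : g ^ p = 1 := by
  obtain ⟨v, rfl⟩ := hg
  rw [← map_pow, show v ^ p = 1 from Multiplicative.toAdd.injective (by
    rw [toAdd_pow, toAdd_one]; ext i; simp), map_one]

theorem isPGroup_V : IsPGroup p D.V := fun g => ⟨1, Subtype.ext (by
  rw [SubgroupClass.coe_pow, pow_one, D.pow_p_of_mem_V g.2, OneMemClass.coe_one])⟩

theorem centralizer_le : Subgroup.centralizer (D.V : Set X) ≤ D.V := by
  intro g hg
  refine (D.hker g).mp (Subtype.ext (Matrix.ext_of_mulVec_single fun i => ?_))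
  show _ = (1 : Matrix (Fin 2) (Fin 2) (ZMod p)) *ᵥ _
  rw [one_mulVec]
  refine Multiplicative.ofAdd.injective (D.hinj ?_)
  rw [← D.conj, ← Subgroup.mem_centralizer_iff.mp hg _ ⟨_, rfl⟩, mul_inv_cancel_right]

/-- the unipotent element group -/
def uni (a : ZMod p) : X := D.li (uniHom p (Multiplicative.ofAdd a))

theorem l_uni (a : ZMod p) : D.l (D.uni a) = uniHom p (Multiplicative.ofAdd a) := D.l_li _

theorem uni_add (a b : ZMod p) : D.uni a * D.uni b = D.uni (a + b) := by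
  rw [uni, uni, uni, ← map_mul, ← map_mul, ← ofAdd_add]

theorem uni_conj (a : ZMod p) (v : Fin 2 → ZMod p) :
    D.uni a * D.t v = D.t ![v 0 + a * v 1, v 1] * D.uni a := by
  rw [← mul_inv_eq_iff_eq_mul, D.conj_t, D.l_uni, uniHom_mulVec]

theorem uni_one_notMem : D.uni 1 ∉ D.V := by
  intro h
  have h1 := (D.hker _).mpr h
  rw [D.l_uni] at h1
  have h2 := congrFun (congrFun (congrArg Subtype.val h1) 0) 1
  simp [uniHom_apply] at h2

/-- the Sylow subgroup over the unipotent elements -/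
def T : Subgroup X := ((uniHom p).range).comap D.l

theorem V_le_T : D.V ≤ D.T := fun g hg => Subgroup.mem_comap.mpr (by
  rw [(D.hker g).mpr hg]; exact one_mem _)

theorem uni_mem_T (a : ZMod p) : D.uni a ∈ D.T := Subgroup.mem_comap.mpr ⟨_, (D.l_uni a).symm⟩

theorem exists_decomp {g : X} (hg : g ∈ D.T) : ∃ v a, g = D.t v * D.uni a := by
  obtain ⟨a, ha⟩ := hg
  have h1 : g * (D.uni a.toAdd)⁻¹ ∈ D.V := (D.hker _).mp (by
    rw [map_mul, map_inv, D.l_uni, ofAdd_toAdd, ha, mul_inv_cancel])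
  obtain ⟨v, hv⟩ := D.mem_V.mp h1
  exact ⟨v, a.toAdd, by rw [← hv, inv_mul_cancel_right]⟩

theorem isPGroup_T : IsPGroup p D.T := by
  intro g
  refine ⟨2, Subtype.ext ?_⟩
  rw [SubgroupClass.coe_pow, OneMemClass.coe_one, pow_two, pow_mul]
  refine D.pow_p_of_mem_V ((D.hker _).mp ?_)
  obtain ⟨a, ha⟩ := (g.2 : (g : X) ∈ D.T)
  rw [map_pow, ← ha, ← map_pow, show a ^ p = 1 from Multiplicative.toAdd.injective (by
    rw [toAdd_pow, toAdd_one]; simp), map_one]

theorem l_surjective : Function.Surjective D.l := fun M => ⟨D.li M, D.l_li M⟩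

/-- `T` as a Sylow subgroup -/
noncomputable def S : Sylow p X := D.isPGroup_T.toSylow (by
  rw [T, Subgroup.index_comap_of_surjective _ D.l_surjective]
  exact not_dvd_index_uni)

theorem S_coe : (D.S : Subgroup X) = D.T := rfl

theorem pCore_le : Cfsg.pCore p X ≤ D.V := by
  intro g hg
  have hQ : IsPGroup p (Cfsg.pCore p X) := Cfsg.Lib.Components.isPGroup_pCore p
  have hle : Cfsg.pCore p X ≤ D.T := Cfsg.Lib.Thompson.le_sylow_of_normal hQ D.S
  obtain ⟨a, ha⟩ := hle hg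
  let r : SL2 := ⟨!![0, -1; 1, 0], by simp [det_fin_two]⟩
  have h2 : D.li r * g * (D.li r)⁻¹ ∈ D.T :=
    hle ((inferInstance : (Cfsg.pCore p X).Normal).conj_mem g hg _)
  obtain ⟨b, hb⟩ := h2
  rw [map_mul, map_mul, map_inv, D.l_li, ← ha, eq_mul_inv_iff_mul_eq] at hb
  have h3 : ((uniHom p b : SL2).1 * r.1) 1 1 = (r.1 * (uniHom p a : SL2).1) 1 1 :=
    congrFun (congrFun (congrArg Subtype.val hb) 1) 1
  replace h3 : ((!![1, b.toAdd; 0, 1] : Matrix (Fin 2) (Fin 2) (ZMod p)) *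
        (!![0, -1; 1, 0] : Matrix (Fin 2) (Fin 2) (ZMod p)) : Matrix (Fin 2) (Fin 2) (ZMod p)) 1 1 =
      ((!![0, -1; 1, 0] : Matrix (Fin 2) (Fin 2) (ZMod p)) *
        (!![1, a.toAdd; 0, 1] : Matrix (Fin 2) (Fin 2) (ZMod p)) : Matrix (Fin 2) (Fin 2) (ZMod p)) 1 1 := h3
  simp [Matrix.mul_apply, Fin.sum_univ_two] at h3
  refine (D.hker g).mp ?_
  rw [← ha, show a = 1 from Multiplicative.toAdd.injective (by rw [toAdd_one]; exact h3.symm), map_one]

/-- the line of fixed translations -/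
def lineHom : Multiplicative (ZMod p) →* X :=
  D.tr.comp (AddMonoidHom.toMultiplicative
    { toFun := fun b => ![b, 0], map_zero' := by simp, map_add' := fun a b => by simp })

theorem lineHom_apply (b : ZMod p) : D.lineHom (Multiplicative.ofAdd b) = D.t ![b, 0] := rfl

theorem commute_line (a b : ZMod p) : Commute (D.t ![b, 0]) (D.uni a) := by
  show _ * _ = _ * _
  rw [D.uni_conj]
  simp

theorem quadratic :
    ⁅⁅D.V, Subgroup.zpowers (D.uni 1)⁆, Subgroup.zpowers (D.uni 1)⁆ = ⊥ := by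
  have hpow : ∀ c ∈ Subgroup.zpowers (D.uni 1), ∃ a, c = D.uni a := by
    intro c hc
    obtain ⟨k, rfl⟩ := hc
    refine ⟨(Multiplicative.ofAdd (1 : ZMod p) ^ k).toAdd, ?_⟩
    show (D.li _) ^ k = D.li _
    rw [← map_zpow, ← map_zpow, ofAdd_toAdd]
  have h1 : ⁅D.V, Subgroup.zpowers (D.uni 1)⁆ ≤ D.lineHom.range := by
    rw [Subgroup.commutator_le]
    intro x hx c hc
    obtain ⟨v, rfl⟩ := D.mem_V.mp hx
    obtain ⟨a, rfl⟩ := hpow c hc
    refine ⟨Multiplicative.ofAdd (-(a * v 1)), ?_⟩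
    rw [D.lineHom_apply, commutatorElement_def, mul_assoc _ (D.t v)⁻¹, mul_assoc, ← mul_assoc (D.uni a),
      D.t_inv, D.uni_conj, mul_inv_cancel_right, D.t_add]
    congr 1
    ext i
    fin_cases i <;> simp
  rw [eq_bot_iff]
  refine (Subgroup.commutator_mono h1 le_rfl).trans ?_
  rw [Subgroup.commutator_le]
  rintro _ ⟨b, rfl⟩ c hc
  obtain ⟨a, rfl⟩ := hpow c hc
  rw [Subgroup.mem_bot, commutatorElement_eq_one_iff_commute]
  exact D.commute_line a b.toAdd

/-- an abelian subgroup of `T` outside `V` -/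
def wHom : Multiplicative (ZMod p × ZMod p) →* X :=
  MonoidHom.mk' (fun x => D.t ![x.toAdd.1, 0] * D.uni x.toAdd.2) fun x y => by
    show D.t _ * D.uni _ = D.t _ * D.uni _ * (D.t _ * D.uni _)
    rw [mul_assoc (D.t ![x.toAdd.1, 0]), ← mul_assoc (D.uni x.toAdd.2),
      ← (D.commute_line x.toAdd.2 y.toAdd.1).eq, mul_assoc (D.t ![y.toAdd.1, 0]), D.uni_add,
      ← mul_assoc, D.t_add]
    simp

theorem wHom_apply (b a : ZMod p) : D.wHom (Multiplicative.ofAdd (b, a)) = D.t ![b, 0] * D.uni a := rfl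

theorem uni_mem_w (a : ZMod p) : D.uni a ∈ D.wHom.range := ⟨Multiplicative.ofAdd (0, a), by
  rw [D.wHom_apply, show (![0, 0] : Fin 2 → ZMod p) = 0 by ext i; fin_cases i <;> rfl]
  show D.tr (Multiplicative.ofAdd 0) * _ = _
  rw [ofAdd_zero, map_one, one_mul]⟩

theorem w_le_T : D.wHom.range ≤ D.T := by
  rintro _ ⟨x, rfl⟩
  exact D.T.mul_mem (D.V_le_T (D.mem_V.mpr ⟨_, rfl⟩)) (D.uni_mem_T _)

theorem w_comm : IsMulCommutative D.wHom.range := ⟨⟨by
  rintro ⟨_, a, rfl⟩ ⟨_, b, rfl⟩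
  refine Subtype.ext ?_
  show D.wHom a * D.wHom b = D.wHom b * D.wHom a
  rw [← map_mul, ← map_mul, mul_comm]⟩⟩

theorem card_w : Nat.card D.wHom.range = p ^ 2 := by
  have hinj : Function.Injective D.wHom := by
    rw [injective_iff_map_eq_one]
    intro x hx
    have h1 : uniHom p (Multiplicative.ofAdd x.toAdd.2) = 1 := by
      have h2 := congrArg D.l hx
      rw [show D.wHom x = D.t ![x.toAdd.1, 0] * D.uni x.toAdd.2 from rfl, map_mul, map_one,
        (D.hker _).mpr (D.mem_V.mpr ⟨_, rfl⟩), one_mul, D.l_uni] at h2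
      exact h2
    have h3 : x.toAdd.2 = 0 := Multiplicative.ofAdd.injective (uniHom_injective (h1.trans (map_one _).symm))
    have h4 : D.t ![x.toAdd.1, 0] = 1 := by
      have : D.t ![x.toAdd.1, 0] * D.uni x.toAdd.2 = 1 := hx
      rwa [h3, uni, ofAdd_zero, map_one, map_one, mul_one] at this
    have h5 : x.toAdd.1 = 0 := by
      have := congrFun (Multiplicative.ofAdd.injective (D.hinj (h4.trans (map_one D.tr).symm))) 0
      simpa using this
    refine Multiplicative.toAdd.injective ?_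
    rw [toAdd_one]
    exact Prod.ext h5 h3
  rw [← Nat.card_congr (MonoidHom.ofInjective hinj).toEquiv, Nat.card_congr Multiplicative.toAdd,
    Nat.card_prod, Nat.card_zmod, pow_two]

theorem card_V : Nat.card D.V = p ^ 2 := by
  rw [V, ← Nat.card_congr (MonoidHom.ofInjective D.hinj).toEquiv, Nat.card_congr Multiplicative.toAdd,
    Nat.card_fun, Nat.card_zmod, Nat.card_eq_fintype_card, Fintype.card_fin]

theorem T_le_normalizer_w : D.T ≤ Subgroup.normalizer (D.wHom.range : Set X) := by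
  intro g hg
  rw [← Cfsg.Lib.Transfer.map_conj_eq_self_iff]
  refine Subgroup.eq_of_le_of_card_ge ?_ (Cfsg.Lib.Transfer.card_map_conj _ g).ge
  rintro _ ⟨_, ⟨x, rfl⟩, rfl⟩
  obtain ⟨v, c, rfl⟩ := D.exists_decomp hg
  refine ⟨Multiplicative.ofAdd (x.toAdd.1 - x.toAdd.2 * v 1, x.toAdd.2), ?_⟩
  show _ = D.t v * D.uni c * (D.t ![x.toAdd.1, 0] * D.uni x.toAdd.2) * (D.t v * D.uni c)⁻¹
  have hc : D.uni c * (D.t ![x.toAdd.1, 0] * D.uni x.toAdd.2) * (D.uni c)⁻¹ =
      D.t ![x.toAdd.1, 0] * D.uni x.toAdd.2 := by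
    rw [← mul_assoc, ← (D.commute_line c _).eq, mul_assoc (D.t _), D.uni_add, add_comm, ← D.uni_add]
    group
  rw [D.wHom_apply, show D.t v * D.uni c * (D.t ![x.toAdd.1, 0] * D.uni x.toAdd.2) * (D.t v * D.uni c)⁻¹ =
    D.t v * (D.uni c * (D.t ![x.toAdd.1, 0] * D.uni x.toAdd.2) * (D.uni c)⁻¹) * (D.t v)⁻¹ by group, hc,
    D.t_inv, ← mul_assoc (D.t v), D.t_add, mul_assoc, D.uni_conj, ← mul_assoc, D.t_add]
  congr 2
  ext i
  fin_cases i <;> simp [Matrix.vecHead, Matrix.vecTail] <;> ring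

theorem not_stable (D : QdLike X p) : ¬ Cfsg.IsNormalizerPStable p X := by
  intro h
  have htop : Subgroup.normalizer (D.V : Set X) = ⊤ := Subgroup.normalizer_eq_top D.V
  have hg : D.uni 1 ∈ Subgroup.normalizer (D.V : Set X) := htop ▸ Subgroup.mem_top _
  have hm := h D.V D.isPGroup_V _ hg D.quadratic
  set N := Subgroup.normalizer (D.V : Set X)
  haveI : ((Subgroup.centralizer (D.V : Set X)).subgroupOf N).Normal :=
    (Subgroup.normal_subgroupOf_iff_le_normalizer (Cfsg.Lib.Thompson.centralizer_le_normalizer D.V)).mpr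
      (Cfsg.Lib.Thompson.normalizer_le_normalizer_centralizer D.V)
  let i : X →* N := MonoidHom.mk' (fun x => ⟨x, htop ▸ Subgroup.mem_top x⟩) fun _ _ => rfl
  let f := (QuotientGroup.mk' ((Subgroup.centralizer (D.V : Set X)).subgroupOf N)).comp i
  have hker : IsPGroup p f.ker := D.isPGroup_V.to_le fun x hx => by
    have : i x ∈ (Subgroup.centralizer (D.V : Set X)).subgroupOf N := (QuotientGroup.eq_one_iff _).mp hx
    exact D.centralizer_le this
  have hp' := (Cfsg.Lib.Components.isPGroup_pCore (p := p)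
    (G := N ⧸ (Subgroup.centralizer (D.V : Set X)).subgroupOf N)).comap_of_ker_isPGroup f hker
  have hle := Cfsg.Lib.Components.le_pCore hp'
  exact D.uni_one_notMem (D.pCore_le (hle (show D.uni 1 ∈ (Cfsg.pCore p _).comap f from hm)))

theorem normal_of_controls {U : Subgroup X} (hV : D.V ≤ Subgroup.normalizer (U : Set X))
    (h : Cfsg.ControlsStrongFusion p U) : U.Normal ∧ U ≤ D.V := by
  obtain ⟨T', hUT, hT⟩ := h
  have hVT : D.V ≤ (T' : Subgroup X) := Cfsg.Lib.Thompson.le_sylow_of_normal D.isPGroup_V T'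
  haveI hn : U.Normal := Subgroup.normalizer_eq_top_iff.mp (top_le_iff.mp fun g _ => by
    obtain ⟨n, hn, hng⟩ := (hT (D.V : Set X) hVT).2 g (by
      rintro _ ⟨x, hx, rfl⟩
      exact hVT (Subgroup.Normal.conj_mem inferInstance x hx g))
    have hc : n⁻¹ * g ∈ Subgroup.centralizer (D.V : Set X) :=
      Subgroup.mem_centralizer_iff.mpr fun x hx => by
        have h2 := congrArg (fun z => n⁻¹ * z * g) (hng x hx)
        simpa [mul_assoc] using h2.symm
    have := Subgroup.mul_mem _ hn (hV (D.centralizer_le hc))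
    rwa [mul_inv_cancel_left] at this)
  exact ⟨hn, (Cfsg.Lib.Components.le_pCore (T'.2.to_le hUT)).trans D.pCore_le⟩

theorem V_le_normalizer_induced {W : ∀ (Q : Type u) [Group Q], Subgroup Q}
    (hW : Cfsg.IsCharPFunctor.{u} p W) :
    D.V ≤ Subgroup.normalizer ((Cfsg.inducedFunctor (G := X) W (D.S : Subgroup X) : Subgroup X) : Set X) :=
  (D.V_le_T.trans (Subgroup.le_normalizer (H := (D.S : Subgroup X)))).trans
    (Cfsg.Lib.Functor.normalizer_le_normalizer_induced hW D.S.2)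

theorem not_controls_zj (D : QdLike X p) :
    ¬ ∀ T : Sylow p X, Cfsg.ControlsStrongFusion p (Cfsg.centerThompsonAOf (T : Subgroup X)) := by
  intro h
  have hV := D.V_le_normalizer_induced Cfsg.Lib.CtrlD.zjW_charP
  rw [Cfsg.Lib.CtrlD.induced_zjW] at hV
  obtain ⟨hn, hle⟩ := D.normal_of_controls hV (h D.S)
  set U := Cfsg.centerThompsonAOf (D.S : Subgroup X)
  haveI : U.Normal := hn
  have hne : U ≠ ⊥ := Cfsg.Lib.ZJ.centerThompsonAOf_ne_bot D.S.2 fun h0 => D.uni_one_notMem (by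
    have h1 := D.uni_mem_T 1
    rw [← D.S_coe, h0, Subgroup.mem_bot] at h1
    rw [h1]; exact one_mem _)
  have hVU : D.V ≤ U := by
    obtain ⟨x, hx⟩ := Subgroup.ne_bot_iff_exists_ne_one.mp hne
    haveI : (U.map D.ψ.toMonoidHom).Normal := hn.map _ D.ψ.surjective
    have hirr := Cfsg.Lib.QdRankTwo.translations_irreducible (N := U.map D.ψ.toMonoidHom)
      (x := D.ψ x) (Subgroup.mem_map_of_mem _ x.2) (by
        obtain ⟨v, hv⟩ := hle x.2
        exact ⟨v, by rw [← D.htr, hv]⟩) (fun h1 => hx (Subtype.ext (by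
          show (x : X) = 1
          exact D.ψ.injective (h1.trans (map_one D.ψ).symm))))
    rintro _ ⟨v, rfl⟩
    obtain ⟨u, hu, huv⟩ := hirr ⟨v, rfl⟩
    have e : u = D.tr v := D.ψ.injective (huv.trans (D.htr v).symm)
    exact e ▸ hu
  have hsub : ∀ A ∈ Cfsg.Lib.Fusion.maxAb (D.S : Subgroup X), D.V ≤ A ∧ A ≤ D.V := by
    intro A hA
    have h1 : U ≤ A := by
      show Cfsg.centerThompsonAOf _ ≤ A
      rw [Cfsg.Lib.Fusion.centerThompsonAOf_eq]
      exact iInf₂_le A hA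
    refine ⟨hVU.trans h1, fun a ha => D.centralizer_le (Subgroup.mem_centralizer_iff.mpr fun v hv => ?_)⟩
    haveI := hA.2.1
    exact congrArg Subtype.val (mul_comm' (⟨v, h1 (hVU hv)⟩ : A) ⟨a, ha⟩)
  obtain ⟨A₀, hA₀⟩ := Cfsg.Lib.Fusion.maxAb_nonempty (T := (D.S : Subgroup X))
  have hA₀V : A₀ = D.V := le_antisymm (hsub A₀ hA₀).2 (hsub A₀ hA₀).1
  have hw : D.wHom.range ∈ Cfsg.Lib.Fusion.maxAb (D.S : Subgroup X) := by
    refine ⟨D.w_le_T, D.w_comm, fun A' h1 h2 => ?_⟩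
    rw [D.card_w, ← D.card_V, ← hA₀V]
    exact hA₀.2.2 A' h1 h2
  exact D.uni_one_notMem ((hsub _ hw).2 (D.uni_mem_w 1))

theorem not_controls_kInf (D : QdLike X p) :
    ¬ ∀ T : Sylow p X, Cfsg.ControlsStrongFusion p
      (Cfsg.inducedFunctor (G := X) Cfsg.kInfLower (T : Subgroup X)) := by
  intro h
  obtain ⟨-, hle⟩ := D.normal_of_controls (D.V_le_normalizer_induced Cfsg.Lib.KInf.isCharPFunctor_lower) (h D.S)
  let B : Subgroup (D.S : Subgroup X) := D.wHom.range.subgroupOf (D.S : Subgroup X)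
  haveI : IsMulCommutative B := ⟨⟨fun a b => Subtype.ext (Subtype.ext (by
    haveI := D.w_comm
    show ((a.1 : (D.S : Subgroup X)) : X) * (b.1 : (D.S : Subgroup X)) = (b.1 : (D.S : Subgroup X)) * (a.1 : (D.S : Subgroup X))
    exact congrArg Subtype.val (mul_comm' (⟨((a.1 : (D.S : Subgroup X)) : X), a.2⟩ : D.wHom.range) ⟨((b.1 : (D.S : Subgroup X)) : X), b.2⟩)))⟩⟩
  haveI : B.Normal := (Subgroup.normal_subgroupOf_iff_le_normalizer (D.S_coe.symm ▸ D.w_le_T)).mpr
    (D.S_coe.symm ▸ D.T_le_normalizer_w)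
  have h1 : B ≤ Cfsg.kInfLower (D.S : Subgroup X) :=
    (Cfsg.Lib.KInf.le_even (n := 0) (Cfsg.Lib.KInf.abelian_mem_lower B _)).trans
      (le_iSup (Cfsg.kSeqEven (D.S : Subgroup X)) 0)
  exact D.uni_one_notMem (hle ⟨⟨D.uni 1, D.uni_mem_T 1⟩, h1 (D.uni_mem_w 1), rfl⟩)

end QdLike

theorem exists_section {G : Type u} [Group G] (h : Cfsg.Involves ↥(Cfsg.qd p) G) :
    ∃ (K R : Subgroup G) (_ : (R.subgroupOf K).Normal), Nonempty (QdLike (K ⧸ R.subgroupOf K) p) := by
  obtain ⟨K, R, hR, ⟨e⟩⟩ := h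
  haveI := hR
  exact ⟨K, R, hR, exists_qdLike e⟩

end Cfsg.Lib.QdConverse
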