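import Cfsg.Agent.Components.Qd.Converse
import Cfsg.Agent.PGroups.Basic

/-!
The Sylow subgroups of `Qd(p)` are Heisenberg groups.
-/

set_option autoImplicit false
set_option linter.style.haveILetI false
set_option linter.unusedSectionVars false

namespace Cfsg.Lib.QdHeis

open Matrix
open scoped commutatorElement

variable {p : ℕ} [Fact p.Prime]

local notation "SL2" => Matrix.SpecialLinearGroup (Fin 2) (ZMod p)

/-- coordinates of the Heisenberg group over `ZMod p` -/
structure Heis (T : Type*) [Group T] (p : ℕ) where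
  e : ZMod p × ZMod p × ZMod p ≃ T
  mul : ∀ a b c a' b' c' : ZMod p, e (a, b, c) * e (a', b', c') = e (a + a' + c * b', b + b', c + c')

namespace Heis

variable {T : Type*} [Group T] (H : Heis T p)

theorem e_inj {x y : ZMod p × ZMod p × ZMod p} (h : H.e x = H.e y) : x = y := H.e.injective h

theorem exists_eq (t : T) : ∃ a b c, t = H.e (a, b, c) :=
  ⟨(H.e.symm t).1, (H.e.symm t).2.1, (H.e.symm t).2.2, (H.e.apply_symm_apply t).symm⟩

theorem e_zero : H.e (0, 0, 0) = 1 := by
  have h := H.mul 0 0 0 0 0 0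
  simp only [add_zero, mul_zero] at h
  exact mul_left_cancel (h.trans (mul_one _).symm)

theorem e_inv (a b c : ZMod p) : (H.e (a, b, c))⁻¹ = H.e (c * b - a, -b, -c) := by
  refine inv_eq_of_mul_eq_one_right ?_
  rw [H.mul, ← H.e_zero]
  congr 1
  refine Prod.ext ?_ (Prod.ext ?_ ?_) <;> dsimp only <;> ring

/-- the swap of the two large abelian subgroups -/
def swap : T ≃* T where
  toFun t := H.e ((H.e.symm t).2.1 * (H.e.symm t).2.2 - (H.e.symm t).1, (H.e.symm t).2.2, (H.e.symm t).2.1)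
  invFun t := H.e ((H.e.symm t).2.1 * (H.e.symm t).2.2 - (H.e.symm t).1, (H.e.symm t).2.2, (H.e.symm t).2.1)
  left_inv t := by
    obtain ⟨a, b, c, rfl⟩ := H.exists_eq t
    simp only [Equiv.symm_apply_apply]
    congr 1
    refine Prod.ext ?_ (Prod.ext ?_ ?_) <;> dsimp only <;> ring
  right_inv t := by
    obtain ⟨a, b, c, rfl⟩ := H.exists_eq t
    simp only [Equiv.symm_apply_apply]
    congr 1
    refine Prod.ext ?_ (Prod.ext ?_ ?_) <;> dsimp only <;> ring
  map_mul' s t := by
    obtain ⟨a, b, c, rfl⟩ := H.exists_eq s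
    obtain ⟨a', b', c', rfl⟩ := H.exists_eq t
    simp only [H.mul, Equiv.symm_apply_apply]
    congr 1
    refine Prod.ext ?_ (Prod.ext ?_ ?_) <;> dsimp only <;> ring

theorem swap_apply (a b c : ZMod p) : H.swap (H.e (a, b, c)) = H.e (b * c - a, c, b) := by
  show H.e _ = _
  rw [Equiv.symm_apply_apply]

theorem mem_center_iff {a b c : ZMod p} :
    H.e (a, b, c) ∈ Subgroup.center T ↔ b = 0 ∧ c = 0 := by
  rw [Subgroup.mem_center_iff]
  constructor
  · intro h
    have h1 := h (H.e (0, 1, 0))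
    have h2 := h (H.e (0, 0, 1))
    rw [H.mul, H.mul] at h1 h2
    have e1 := congrArg Prod.fst (H.e_inj h1)
    have e2 := congrArg Prod.fst (H.e_inj h2)
    simp only [zero_mul, mul_one, mul_zero, one_mul, add_zero, zero_add] at e1 e2
    exact ⟨by linear_combination e2, by linear_combination -e1⟩
  · rintro ⟨rfl, rfl⟩ t
    obtain ⟨a', b', c', rfl⟩ := H.exists_eq t
    rw [H.mul, H.mul]
    congr 1
    refine Prod.ext ?_ (Prod.ext ?_ ?_) <;> dsimp only <;> ring

theorem card_center (H : Heis T p) : Nat.card (Subgroup.center T) = p := by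
  let g : ZMod p → Subgroup.center T := fun a => ⟨H.e (a, 0, 0), H.mem_center_iff.mpr ⟨rfl, rfl⟩⟩
  have hb : Function.Bijective g := by
    refine ⟨fun x y h => congrArg Prod.fst (H.e_inj (congrArg Subtype.val h)), fun z => ?_⟩
    obtain ⟨a, b, c, h⟩ := H.exists_eq (z : T)
    obtain ⟨hb, hc⟩ := H.mem_center_iff.mp (h ▸ z.2)
    exact ⟨a, Subtype.ext (by show H.e (a, 0, 0) = (z : T); rw [h, hb, hc])⟩
  rw [← Nat.card_congr (Equiv.ofBijective g hb), Nat.card_zmod]

theorem card_eq (H : Heis T p) : Nat.card T = p ^ 3 := by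
  rw [← Nat.card_congr H.e, Nat.card_prod, Nat.card_prod, Nat.card_zmod]
  ring

theorem commutator_eq (H : Heis T p) : commutator T = Subgroup.center T := by
  refine le_antisymm ?_ ?_
  · rw [commutator_def, Subgroup.commutator_le]
    rintro s - t -
    obtain ⟨a, b, c, rfl⟩ := H.exists_eq s
    obtain ⟨a', b', c', rfl⟩ := H.exists_eq t
    rw [commutatorElement_def, H.e_inv, H.e_inv, H.mul, H.mul, H.mul, H.mem_center_iff]
    exact ⟨by ring, by ring⟩
  · intro z hz
    obtain ⟨a, b, c, rfl⟩ := H.exists_eq z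
    obtain ⟨rfl, rfl⟩ := H.mem_center_iff.mp hz
    have h : H.e (a, 0, 0) = ⁅H.e (0, 0, 1), H.e (0, a, 0)⁆ := by
      rw [commutatorElement_def, H.e_inv, H.e_inv, H.mul, H.mul, H.mul]
      congr 1
      refine Prod.ext ?_ (Prod.ext ?_ ?_) <;> dsimp only <;> ring
    rw [h, commutator_def]
    exact Subgroup.commutator_mem_commutator (Subgroup.mem_top _) (Subgroup.mem_top _)

/-- the subgroup `c = 0` -/
def line₁ : Subgroup T where
  carrier := {t | (H.e.symm t).2.2 = 0}
  one_mem' := by simp [← H.e_zero]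
  mul_mem' {s t} hs ht := by
    obtain ⟨a, b, c, rfl⟩ := H.exists_eq s
    obtain ⟨a', b', c', rfl⟩ := H.exists_eq t
    simp only [Set.mem_ofPred_eq, H.mul, Equiv.symm_apply_apply] at *
    rw [hs, ht, add_zero]
  inv_mem' {t} ht := by
    obtain ⟨a, b, c, rfl⟩ := H.exists_eq t
    simp only [Set.mem_ofPred_eq, H.e_inv, Equiv.symm_apply_apply] at *
    rw [ht, neg_zero]

theorem mem_line₁ {a b c : ZMod p} : H.e (a, b, c) ∈ H.line₁ ↔ c = 0 := by
  show (H.e.symm (H.e (a, b, c))).2.2 = 0 ↔ _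
  rw [Equiv.symm_apply_apply]

theorem isCoatom_line₁ [Finite T] : IsCoatom H.line₁ := by
  have hcard : Nat.card H.line₁ = p ^ 2 := by
    let g : ZMod p × ZMod p → H.line₁ := fun x => ⟨H.e (x.1, x.2, 0), H.mem_line₁.mpr rfl⟩
    have hb : Function.Bijective g := by
      refine ⟨fun x y h => ?_, fun z => ?_⟩
      · have e := H.e_inj (congrArg Subtype.val h)
        simp only [Prod.mk.injEq] at e
        exact Prod.ext e.1 e.2.1
      · obtain ⟨a, b, c, h⟩ := H.exists_eq (z : T)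
        have hc := H.mem_line₁.mp (h ▸ z.2)
        exact ⟨(a, b), Subtype.ext (by show H.e (a, b, 0) = (z : T); rw [h, hc])⟩
    rw [← Nat.card_congr (Equiv.ofBijective g hb), Nat.card_prod, Nat.card_zmod, pow_two]
  refine ⟨fun h => ?_, fun K hK => ?_⟩
  · have := hcard
    rw [h, Subgroup.card_top, H.card_eq] at this
    exact absurd (Nat.pow_right_injective (Fact.out : p.Prime).two_le this) (by norm_num)
  · have h1 : Nat.card H.line₁ ∣ Nat.card K := Subgroup.card_dvd_of_le hK.le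
    have h2 : Nat.card K ∣ p ^ 3 := H.card_eq ▸ Subgroup.card_subgroup_dvd_card K
    rw [hcard] at h1
    obtain ⟨i, hi, hKi⟩ := (Nat.dvd_prime_pow (Fact.out : p.Prime)).mp h2
    rw [hKi] at h1
    have hi2 := (Nat.pow_dvd_pow_iff_le_right (Fact.out : p.Prime).one_lt).mp h1
    refine Subgroup.eq_top_of_card_eq K ?_
    rw [hKi, H.card_eq]
    congr 1
    by_contra hne
    have hi3 : i = 2 := by omega
    exact hK.ne (Subgroup.eq_of_le_of_card_ge hK.le (by rw [hKi, hcard, hi3]))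

theorem frattini_eq [Finite T] (H : Heis T p) : frattini T = Subgroup.center T := by
  refine le_antisymm (fun z hz => ?_) ?_
  · have h1 := frattini_le_coatom H.isCoatom_line₁ hz
    have h2 : H.swap z ∈ H.line₁ := by
      have hc : IsCoatom (H.line₁.map H.swap.symm.toMonoidHom) :=
        (OrderIso.isCoatom_iff H.swap.symm.mapSubgroup H.line₁).mpr H.isCoatom_line₁
      obtain ⟨w, hw, rfl⟩ := frattini_le_coatom hc hz
      simpa using hw
    obtain ⟨a, b, c, rfl⟩ := H.exists_eq z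
    rw [H.swap_apply, H.mem_line₁] at h2
    exact H.mem_center_iff.mpr ⟨h2, H.mem_line₁.mp h1⟩
  · rw [← H.commutator_eq]
    exact Cfsg.Lib.PGroups.commutator_le_frattini (IsPGroup.of_card (n := 3) H.card_eq)

theorem e_pow (a b c : ZMod p) (n : ℕ) :
    H.e (a, b, c) ^ n = H.e (n * a + (n.choose 2 : ZMod p) * (c * b), n * b, n * c) := by
  induction n with
  | zero => simp [H.e_zero]
  | succ n ih =>
    rw [pow_succ, ih, H.mul]
    congr 1
    refine Prod.ext ?_ (Prod.ext ?_ ?_) <;> dsimp only <;>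
      simp only [Nat.choose_succ_succ', Nat.choose_one_right, Nat.cast_add, Nat.cast_succ] <;> ring

theorem exponent_eq [Finite T] (hp : p ≠ 2) (H : Heis T p) : Monoid.exponent T = p := by
  have hpr := (Fact.out : p.Prime)
  have hd : Monoid.exponent T ∣ p := by
    refine Monoid.exponent_dvd_of_forall_pow_eq_one fun t => ?_
    obtain ⟨a, b, c, rfl⟩ := H.exists_eq t
    rw [H.e_pow, ← H.e_zero]
    have h2 : p ∣ p.choose 2 := hpr.dvd_choose_self two_ne_zero (by have := hpr.two_le; omega)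
    rw [(ZMod.natCast_eq_zero_iff _ _).mpr h2]
    simp
  refine ((Nat.dvd_prime hpr).mp hd).resolve_left fun h => ?_
  haveI := Monoid.exp_eq_one_iff.mp h
  have := H.card_eq
  rw [Nat.card_unique] at this
  have := Nat.one_lt_pow (n := 3) (by norm_num) hpr.one_lt
  omega

theorem isExtraspecial [Finite T] (H : Heis T p) : Cfsg.IsExtraspecial p T :=
  ⟨⟨IsPGroup.of_card (n := 3) H.card_eq, H.frattini_eq, H.commutator_eq⟩, H.card_center⟩

/-- transport of coordinates -/
def congr {T' : Type*} [Group T'] (f : T ≃* T') : Heis T' p where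
  e := H.e.trans f.toEquiv
  mul a b c a' b' c' := by
    show f _ * f _ = f _
    rw [← map_mul, H.mul]

end Heis

end Cfsg.Lib.QdHeis

namespace Cfsg.Lib.QdConverse.QdLike

open Matrix Cfsg.Lib.QdHeis

variable {p : ℕ} [Fact p.Prime]

local notation "SL2" => Matrix.SpecialLinearGroup (Fin 2) (ZMod p)

universe u

variable {X : Type u} [Group X] [Finite X] (D : QdLike X p)

/-- coordinates on `T` -/
noncomputable def heis : Heis D.T p where
  e := Equiv.ofBijective
    (fun x => ⟨D.t ![x.1, x.2.1] * D.uni x.2.2, D.T.mul_mem (D.V_le_T (D.mem_V.mpr ⟨_, rfl⟩)) (D.uni_mem_T _)⟩) (by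
      constructor
      · intro x y h
        have h' : D.t ![x.1, x.2.1] * D.uni x.2.2 = D.t ![y.1, y.2.1] * D.uni y.2.2 := congrArg Subtype.val h
        have h1 := congrArg D.l h'
        rw [map_mul, map_mul, (D.hker _).mpr (D.mem_V.mpr ⟨_, rfl⟩), one_mul, D.l_uni,
          (D.hker _).mpr (D.mem_V.mpr ⟨_, rfl⟩), one_mul, D.l_uni] at h1
        have hc : x.2.2 = y.2.2 := Multiplicative.ofAdd.injective (uniHom_injective h1)
        rw [hc] at h'
        have h2 := Multiplicative.ofAdd.injective (D.hinj (mul_right_cancel h'))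
        exact Prod.ext (congrFun h2 0) (Prod.ext (congrFun h2 1) hc)
      · intro g
        obtain ⟨v, a, hva⟩ := D.exists_decomp g.2
        refine ⟨(v 0, v 1, a), Subtype.ext ?_⟩
        show D.t ![v 0, v 1] * D.uni a = (g : X)
        rw [hva]
        congr 2
        ext i
        fin_cases i <;> rfl)
  mul a b c a' b' c' := by
    refine Subtype.ext ?_
    show D.t ![a, b] * D.uni c * (D.t ![a', b'] * D.uni c') = D.t ![a + a' + c * b', b + b'] * D.uni (c + c')
    rw [mul_assoc, ← mul_assoc (D.uni c), D.uni_conj, mul_assoc, D.uni_add, ← mul_assoc, D.t_add]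
    congr 2
    ext i
    fin_cases i <;> simp [add_assoc]

theorem coe_heis (a b c : ZMod p) : ((D.heis.e (a, b, c) : D.T) : X) = D.t ![a, b] * D.uni c := rfl

set_option maxHeartbeats 1600000 in
theorem mem_normalizer_T {g : X} (h : ((D.l g : SL2) : Matrix (Fin 2) (Fin 2) (ZMod p)) 1 0 = 0) :
    g ∈ Subgroup.normalizer (D.T : Set X) := by
  rw [← Cfsg.Lib.Transfer.map_conj_eq_self_iff]
  refine Subgroup.eq_of_le_of_card_ge ?_ (Cfsg.Lib.Transfer.card_map_conj _ g).ge
  rintro _ ⟨y, hy, rfl⟩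
  obtain ⟨t, ht⟩ := (hy : D.l y ∈ (uniHom p).range)
  set M := D.l g with hM
  refine ⟨Multiplicative.ofAdd (M.1 0 0 ^ 2 * t.toAdd), ?_⟩
  show uniHom p _ = D.l (g * y * g⁻¹)
  rw [D.l.map_mul, D.l.map_mul, D.l.map_inv, ← hM, ← ht, eq_mul_inv_iff_mul_eq]
  have hdet : M.1 0 0 * M.1 1 1 - M.1 0 1 * M.1 1 0 = 1 := by rw [← det_fin_two]; exact M.2
  refine Subtype.ext ?_
  show (!![1, M.1 0 0 ^ 2 * t.toAdd; 0, 1] : Matrix (Fin 2) (Fin 2) (ZMod p)) * M.1 =
    M.1 * (!![1, t.toAdd; 0, 1] : Matrix (Fin 2) (Fin 2) (ZMod p))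
  rw [h, mul_zero, sub_zero] at hdet
  ext i j
  fin_cases i <;> fin_cases j <;> simp [Matrix.mul_apply, Fin.sum_univ_two, h]
  linear_combination (M.1 0 0 * t.toAdd) * hdet

theorem eq_top_of_le {H : Subgroup X} (hH : D.T ≤ H) {g : X} (hg : g ∈ H)
    (h : ((D.l g : SL2) : Matrix (Fin 2) (Fin 2) (ZMod p)) 1 0 ≠ 0) : H = ⊤ := by
  set L := H.map D.l with hL
  let u : ZMod p → SL2 := fun a => uniHom p (Multiplicative.ofAdd a)
  let lo : ZMod p → SL2 := fun a => ⟨!![1, 0; a, 1], by simp [det_fin_two]⟩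
  have hu : ∀ a, u a ∈ L := fun a => ⟨D.uni a, hH (D.uni_mem_T a), D.l_uni a⟩
  have ucoe : ∀ a, (u a).1 = !![1, a; 0, 1] := fun a => rfl
  have hlo : ∀ a, lo a ∈ L := by
    intro s
    set M := D.l g
    set M' := u (-(M.1 0 0) / M.1 1 0) * M with hM'
    have hM'L : M' ∈ L := L.mul_mem (hu _) ⟨g, hg, rfl⟩
    have h00 : M'.1 0 0 = 0 := by
      rw [hM', Matrix.SpecialLinearGroup.coe_mul, ucoe]
      simp [Matrix.mul_apply, Fin.sum_univ_two]
      field_simp
      ring
    have h10 : M'.1 1 0 ≠ 0 := by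
      rw [hM', Matrix.SpecialLinearGroup.coe_mul, ucoe]
      simpa [Matrix.mul_apply, Fin.sum_univ_two] using h
    have e : M' * u (s * M'.1 0 1 / M'.1 1 0) * M'⁻¹ = lo s := by
      rw [mul_inv_eq_iff_eq_mul]
      refine Subtype.ext ?_
      show M'.1 * (u _).1 = (!![1, 0; s, 1] : Matrix (Fin 2) (Fin 2) (ZMod p)) * M'.1
      rw [ucoe]
      ext i j
      fin_cases i <;> fin_cases j <;> simp [Matrix.mul_apply, Fin.sum_univ_two, h00]
      field_simp
    rw [← e]
    exact L.mul_mem (L.mul_mem hM'L (hu _)) (L.inv_mem hM'L)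
  have hne : ∀ M : SL2, M.1 1 0 ≠ 0 → M ∈ L := by
    intro M hc
    have hdet : M.1 0 0 * M.1 1 1 - M.1 0 1 * M.1 1 0 = 1 := by rw [← det_fin_two]; exact M.2
    have e : M = u ((M.1 0 0 - 1) / M.1 1 0) * lo (M.1 1 0) * u ((M.1 1 1 - 1) / M.1 1 0) := by
      refine Subtype.ext ?_
      show M.1 = (u _).1 * (!![1, 0; M.1 1 0, 1] : Matrix (Fin 2) (Fin 2) (ZMod p)) * (u _).1
      rw [ucoe, ucoe]
      ext i j
      fin_cases i <;> fin_cases j <;> simp [Matrix.mul_apply, Fin.sum_univ_two] <;> field_simp <;>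
        first | linear_combination -hdet | linear_combination hdet | ring1
    rw [e]
    exact L.mul_mem (L.mul_mem (hu _) (hlo _)) (hu _)
  have hall : ∀ M : SL2, M ∈ L := by
    intro M
    by_cases hc : M.1 1 0 = 0
    · have h1 : (lo 1 * M).1 1 0 ≠ 0 := by
        show ((!![1, 0; 1, 1] : Matrix (Fin 2) (Fin 2) (ZMod p)) * M.1) 1 0 ≠ 0
        simp [Matrix.mul_apply, Fin.sum_univ_two, hc]
        intro h0
        have hdet : M.1 0 0 * M.1 1 1 - M.1 0 1 * M.1 1 0 = 1 := by rw [← det_fin_two]; exact M.2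
        rw [h0, hc] at hdet
        simp at hdet
      have := L.mul_mem (L.inv_mem (hlo 1)) (hne _ h1)
      rwa [inv_mul_cancel_left] at this
    · exact hne M hc
  refine eq_top_iff.mpr fun x _ => ?_
  obtain ⟨y, hy, hyx⟩ := hall (D.l x)
  have : x * y⁻¹ ∈ D.V := (D.hker _).mp (by rw [map_mul, map_inv, hyx, mul_inv_cancel])
  have := H.mul_mem (hH (D.V_le_T this)) hy
  rwa [inv_mul_cancel_right] at this

/-- coordinates on any Sylow subgroup, together with the position of `V` -/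
theorem exists_heis (D : QdLike X p) (S : Sylow p X) : ∃ H : Heis ↥(S : Subgroup X) p,
    ∀ a b c, ((H.e (a, b, c) : ↥(S : Subgroup X)) : X) ∈ D.V ↔ c = 0 := by
  obtain ⟨g, rfl⟩ := MulAction.exists_smul_eq X D.S S
  have hS : D.T.map (MulAut.conj g).toMonoidHom = ((g • D.S : Sylow p X) : Subgroup X) := rfl
  refine ⟨D.heis.congr ((D.T.equivMapOfInjective (MulAut.conj g).toMonoidHom (MulAut.conj g).injective).trans
    (MulEquiv.subgroupCongr hS)), fun a b c => ?_⟩
  show g * (D.t ![a, b] * D.uni c) * g⁻¹ ∈ D.V ↔ _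
  constructor
  · intro h
    have h1 : D.t ![a, b] * D.uni c ∈ D.V := by
      have := (inferInstance : D.V.Normal).conj_mem _ h g⁻¹
      simpa [mul_assoc] using this
    have h2 := (D.hker _).mpr h1
    rw [map_mul, (D.hker _).mpr (D.mem_V.mpr ⟨_, rfl⟩), one_mul, D.l_uni] at h2
    exact Multiplicative.ofAdd.injective (uniHom_injective (h2.trans (map_one _).symm))
  · rintro rfl
    refine (inferInstance : D.V.Normal).conj_mem _ ?_ g
    rw [uni, ofAdd_zero, map_one, map_one, mul_one]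
    exact D.mem_V.mpr ⟨_, rfl⟩

theorem normalizer_le_or_eq_top (D : QdLike X p) (S : Sylow p X) {N : Subgroup X} (hN : (S : Subgroup X) ≤ N) :
    N ≤ Subgroup.normalizer ((S : Subgroup X) : Set X) ∨ N = ⊤ := by
  obtain ⟨g, rfl⟩ := MulAction.exists_smul_eq X D.S S
  have hS : D.T.map (MulAut.conj g).toMonoidHom = ((g • D.S : Sylow p X) : Subgroup X) := rfl
  let N₀ := N.comap (MulAut.conj g).toMonoidHom
  have hT : D.T ≤ N₀ := fun x hx => hN (hS ▸ Subgroup.mem_map_of_mem _ hx)
  by_cases h : ∀ k ∈ N₀, ((D.l k : SL2) : Matrix (Fin 2) (Fin 2) (ZMod p)) 1 0 = 0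
  · left
    intro x hx
    have hk : g⁻¹ * x * g ∈ N₀ := by
      show g * (g⁻¹ * x * g) * g⁻¹ ∈ N
      convert hx using 1
      group
    have h1 := Cfsg.Lib.Transfer.map_conj_eq_self_iff.mpr (D.mem_normalizer_T (h _ hk))
    rw [← Cfsg.Lib.Transfer.map_conj_eq_self_iff, ← hS, Subgroup.map_map]
    conv_rhs => rw [← h1, Subgroup.map_map]
    congr 1
    ext y
    show x * (g * y * g⁻¹) * x⁻¹ = g * (g⁻¹ * x * g * y * (g⁻¹ * x * g)⁻¹) * g⁻¹
    group
  · right
    push Not at h
    obtain ⟨k, hk, hk1⟩ := h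
    have h2 := D.eq_top_of_le hT hk hk1
    refine eq_top_iff.mpr fun x _ => ?_
    have h3 : g⁻¹ * x * g ∈ N₀ := h2 ▸ Subgroup.mem_top _
    have h4 : g * (g⁻¹ * x * g) * g⁻¹ ∈ N := h3
    convert h4 using 1
    group

theorem sylow_not_normal (D : QdLike X p) (S : Sylow p X) : ¬ (S : Subgroup X).Normal := by
  intro hn
  obtain ⟨H, hH⟩ := D.exists_heis S
  have h : ((H.e (0, 0, 1) : ↥(S : Subgroup X)) : X) ∈ D.V :=
    D.pCore_le (Cfsg.Lib.Components.le_pCore S.2 (H.e (0, 0, 1)).2)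
  exact one_ne_zero ((hH 0 0 1).mp h)

theorem eq_V_of_normal {N : Subgroup X} [hn : N.Normal] (hle : N ≤ D.V) (hne : N ≠ ⊥) : N = D.V := by
  refine le_antisymm hle ?_
  obtain ⟨x, hx⟩ := Subgroup.ne_bot_iff_exists_ne_one.mp hne
  haveI : (N.map D.ψ.toMonoidHom).Normal := hn.map _ D.ψ.surjective
  have hirr := Cfsg.Lib.QdRankTwo.translations_irreducible (N := N.map D.ψ.toMonoidHom)
    (x := D.ψ x) (Subgroup.mem_map_of_mem _ x.2) (by
      obtain ⟨v, hv⟩ := hle x.2
      exact ⟨v, by rw [← D.htr, hv]⟩) (fun h1 => hx (Subtype.ext (by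
        show (x : X) = 1
        exact D.ψ.injective (h1.trans (map_one D.ψ).symm))))
  rintro _ ⟨v, rfl⟩
  obtain ⟨u, hu, huv⟩ := hirr ⟨v, rfl⟩
  have e : u = D.tr v := D.ψ.injective (huv.trans (D.htr v).symm)
  exact e ▸ hu

theorem normalizer_characteristic (D : QdLike X p) (S : Sylow p X) (T : Subgroup ↥(S : Subgroup X)) (hT : T ≠ ⊥)
    [hc : T.Characteristic] :
    Subgroup.normalizer ((T.map (S : Subgroup X).subtype : Subgroup X) : Set X) =
        Subgroup.normalizer ((S : Subgroup X) : Set X) ∧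
      Subgroup.normalizer ((S : Subgroup X) : Set X) ≠ ⊤ := by
  set N := T.map (S : Subgroup X).subtype
  refine ⟨?_, fun h => D.sylow_not_normal S (Subgroup.normalizer_eq_top_iff.mp h)⟩
  have hge : Subgroup.normalizer ((S : Subgroup X) : Set X) ≤ Subgroup.normalizer (N : Set X) := by
    haveI : ((S : Subgroup X).subgroupOf (Subgroup.normalizer ((S : Subgroup X) : Set X))).Normal :=
      Subgroup.normal_in_normalizer
    intro x hx
    rw [← Cfsg.Lib.Transfer.map_conj_eq_self_iff]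
    refine Subgroup.eq_of_le_of_card_ge ?_ (Cfsg.Lib.Transfer.card_map_conj _ x).ge
    rintro _ ⟨_, ⟨y, hy, rfl⟩, rfl⟩
    let φ : MulAut ↥(S : Subgroup X) :=
      ((S : Subgroup X).equivMapOfInjective (MulAut.conj x).toMonoidHom (MulAut.conj x).injective).trans
        (MulEquiv.subgroupCongr (Cfsg.Lib.Transfer.map_conj_eq_self_iff.mpr hx))
    have h1 : φ y ∈ T := by
      rw [← Subgroup.characteristic_iff_map_eq.mp hc φ]
      exact Subgroup.mem_map_of_mem _ hy
    exact ⟨φ y, h1, rfl⟩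
  refine le_antisymm ?_ hge
  rcases D.normalizer_le_or_eq_top S ((Subgroup.le_normalizer (H := (S : Subgroup X))).trans hge) with h | h
  · exact h
  exfalso
  haveI : N.Normal := Subgroup.normalizer_eq_top_iff.mp h
  have hp' : IsPGroup p N := S.2.to_le (Subgroup.map_subtype_le T)
  have hne : N ≠ ⊥ := fun h0 => hT ((Subgroup.map_eq_bot_iff_of_injective _ Subtype.coe_injective).mp h0)
  have hNV := D.eq_V_of_normal ((Cfsg.Lib.Components.le_pCore hp').trans D.pCore_le) hne
  obtain ⟨H, hH⟩ := D.exists_heis S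
  have hmem : ∀ a b c, H.e (a, b, c) ∈ T ↔ c = 0 := fun a b c => by
    rw [← hH a b c, ← hNV]
    exact (Subgroup.mem_map_iff_mem Subtype.coe_injective).symm
  have h2 : H.swap (H.e (0, 1, 0)) ∈ T := by
    rw [← Subgroup.characteristic_iff_map_eq.mp hc H.swap]
    exact Subgroup.mem_map_of_mem _ ((hmem 0 1 0).mpr rfl)
  rw [H.swap_apply, hmem] at h2
  exact one_ne_zero h2

end Cfsg.Lib.QdConverse.QdLike
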